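import Cfsg.Agent.DZ3.Spor.Tr_m3
import Cfsg.Agent.H633.Ore.Co2Ore
import Cfsg.Agent.Prune
set_option linter.all false
prune_inst 0x7f00000000000000000000000000000000000000000000000000000000000000000000000000000000000000000000000000000000000000000000000000000000000000000000000000000000000000003fffffffffffffffffffffffffffbeffbdffffffff

/-!
# The table of `Co2` : fixed points and traces of the class representatives (helper88, TAB)
-/

set_option autoImplicit false
set_option maxRecDepth 1000000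

namespace Cfsg.Agent.TAB.Co2

open Cfsg Cfsg.Agent.TAB.Eng Cfsg.Agent.TAB.Use Cfsg.Agent.TAB.Co
open Cfsg.Agent.H633.Ore Cfsg.Agent.H633.Ore.Co2 Cfsg.Agent.H633.Ore.Co2D
open Cfsg.Agent.DZ3.Spor.Tr (tab)

/-- words and types -/
def E0 : List (List ℕ × ℕ) := [([], 0), (C0.w1, 1), (C0.w2, 3), (C0.w3, 2), (C0.w4, 4), (C0.w5, 5), (C1.w6, 7), (C1.w7, 9), (C1.w8, 12), (C1.w9, 10), (C1.w10, 11), (C2.w11, 8),
    (C2.w12, 6), (C2.w13, 13), (C2.w14, 14), (C2.w15, 18), (C3.w16, 20), (C3.w17, 16), (C3.w18, 19), (C3.w19, 17), (C3.w20, 15), (C4.w21, 21),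
    (C4.w22, 22), (C4.w23, 24), (C4.w24, 23), (C4.w25, 27), (C5.w26, 26), (C5.w27, 25)]

/-- words and types -/
def E1 : List (List ℕ × ℕ) := [(C5.w28, 28), (C5.w29, 31), (C5.w30, 30), (C6.w31, 29), (C6.w32, 32), (C6.w33, 34), (C6.w34, 33), (C6.w35, 39), (C7.w36, 40), (C7.w37, 35), (C7.w38,
    36), (C7.w39, 37)]

/-- words and types -/
def E2 : List (List ℕ × ℕ) := [(C7.w40, 38), (C8.w41, 41), (C8.w42, 42), (C8.w43, 43), (C8.w44, 44), (C8.w45, 45), (C9.w46, 46), (C9.w47, 47), (C9.w48, 48)]

/-- words and types -/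
def E3 : List (List ℕ × ℕ) := [(C9.w49, 49), (C9.w50, 50), (C10.w51, 51), (C10.w52, 52), (C10.w53, 53), (C10.w54, 54), (C10.w55, 55)]

/-- all of them -/
def E : List (List ℕ × ℕ) := E0 ++ E1 ++ E2 ++ E3

/-- the check of a word -/
noncomputable def chk (e : List ℕ × ℕ) : Bool :=
  decide (e.2 < D.n) && ordT e.1 (D.ord e.2) && wmF e.1 ID22 fun L => pwF L (D.ord e.2) ID22 fun Ls =>
    allL (fun p : ℕ × ℕ => decide (p.1 < D.ord e.2) && decide ((cntF (nthL Ls p.1) : ℤ) = nth valL p.2)) (D.pw e.2)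

theorem chk0 : allL chk E0 = true := by decide +kernel

theorem chk1 : allL chk E1 = true := by decide +kernel

theorem chk2 : allL chk E2 = true := by decide +kernel

theorem chk3 : allL chk E3 = true := by decide +kernel

theorem chk_all {e : List ℕ × ℕ} (he : e ∈ E) : chk e = true := by
  simp only [E, List.mem_append] at he
  rcases he with ((he | he) | he) | he
  exacts [allL_spec chk0 e he, allL_spec chk1 e he, allL_spec chk2 e he, allL_spec chk3 e he]

/-- the entries of a matrix -/
def en (R : List (List ℤ)) (i j : ℕ) : ℤ := (R.getD i []).getD j 0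

theorem E_tr : ((tab (en R0) (en R1) (en R2) 1 (E.map Prod.fst)).map fun l => (l.getD 0 0 : ℤ)) =
    E.map fun e => 8 * nth (ntd seeds [] 0) e.2 + 392 := by decide +kernel

theorem E_all : allL (fun t => (E.any fun e => e.2 == t) && (t == 0 || (D.pw t).any fun p => p.1 == 1 && p.2 == t))
    (List.range D.n) = true := by decide +kernel

end Cfsg.Agent.TAB.Co2

private theorem dce_087478e31052 : _root_.True := by
  try have : _root_.True := by simp only [_root_.Cfsg.Agent.TAB.Co2.E.eq_1]
  exact _root_.True.intro
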